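import Cfsg.Agent.Co2C.Cert
import Cfsg.Agent.Leech.Aut

set_option autoImplicit false
set_option Elab.async false
set_option maxRecDepth 100000
set_option linter.all false

namespace Cfsg.Agent.Co2C
open Cfsg.Agent.CGT

noncomputable def g_Ws : List (List ℕ) := [[12, 8, 6, 0, 8, 6, 14, 4, 2, 10, 0, 6, 14, 4, 2, 10, 0, 8, 0, 6, 8, 12], [12, 14, 4, 14, 6, 4, 14, 6, 12, 0, 12, 0, 6, 8, 2, 10, 0, 4, 8, 2, 8, 6], [10, 6, 12, 0, 12, 4, 14, 10, 2, 12, 0, 4, 10, 8, 10, 4, 8, 6, 8, 2, 4, 8], [4, 6, 10, 2, 12, 2, 6, 12, 8, 2, 0, 10, 6, 8, 4, 8, 4, 2], [0, 12, 10, 6, 12, 8, 2, 12, 10, 6, 10, 8, 10, 8, 6, 8, 6, 8, 6, 2], [0, 10, 2, 0, 12, 0, 10, 12, 8, 10, 0, 4, 10, 4, 0, 8], [10, 12, 4, 2, 8, 4, 10, 2, 12, 2, 10, 2, 10, 2, 8, 2, 4, 8, 4, 0], [6, 8, 6, 2, 10, 0, 10, 2, 8, 0, 2, 8, 6, 8, 6],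 [4, 8, 4, 10, 8, 10, 0, 2, 8, 6, 8, 4, 2, 6], [6, 8, 4, 0, 8, 10, 8, 0, 2, 8, 4, 6], [10, 2, 6, 10, 2, 10, 8, 0, 2, 8, 6, 2, 4], [10, 2, 8, 6, 10, 4, 10, 8, 4, 0, 8, 4, 8, 0], [8, 2, 6, 8, 0, 8, 4, 0], [2, 8, 2, 8, 6, 8, 4, 2, 0], [8, 0, 8, 0, 2, 8, 2, 6, 0], [4, 6, 8, 0, 8, 4, 2, 8, 6], [0, 8, 6, 8, 4, 8, 2, 6], [6, 2, 4], [4, 6], [2, 0], [4, 2], [0], [0], [2], [4], [6], [8], [10], [12], [14]]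
theorem g_s0 : slpB 12 m_ts (chainBase [] c_ls) g_Ws [[3, 4, 1, 2, 1, 2, 5, 2, 5, 1], [3, 4, 1, 4, 3, 0, 2, 0, 2, 4, 4, 3], [1, 1, 3, 1, 5, 4, 4, 2, 2, 1, 3, 5], [3, 5, 0, 2, 4, 2, 2, 0, 1, 0], [13, 8, 10, 11, 12, 10, 9, 13], [7, 7, 12, 11, 13, 8, 11, 12, 10, 6], [8, 13, 6, 13, 13, 10, 7, 8, 11, 12, 13], [6, 6, 12, 11, 9, 12, 6, 9, 6, 12, 8], [6, 9, 10, 10, 6, 12, 6, 8, 13], [19, 14, 21, 18], [14, 23, 14, 18, 21, 18, 19, 15, 19, 14], [15, 17, 18, 17, 14, 20, 15, 19], [19, 14, 20, 17, 15, 17, 21, 19], [15, 19, 22, 21, 18, 19, 20, 18, 18, 16, 15], [25, 33, 33, 25, 32, 29], [24, 24, 24, 28, 28, 31, 24, 26], [25, 26, 25, 24, 28, 24, 33, 26], [24, 30, 26, 24, 32, 30, 32, 28], [39, 40, 37, 39, 35, 41, 38], [42], [38, 42], [40, 38, 42], [40, 34], [28, 31, 28, 35], [19, 15, 28, 32, 26,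 24, 35, 42], [11, 12, 10, 10, 20, 18, 30, 24, 41, 38], [1, 2, 1, 5, 1, 1, 12, 6, 13, 6, 16, 19, 16, 30, 29, 37, 42]] 3 30 = true := by decide +kernel
theorem g_top {G : Type*} [Group G] {φ : G →* Equiv.Perm ℕ} {γ : ℕ → G}
    (C : Cert φ γ 12 m_ns m_ts [0, 2, 4, 6, 8, 10, 12, 14] c_ls) : gw γ (g_Ws.take 3) = ⊤ := by
  have h0 : SlpTo γ (gw γ (g_Ws.take 3)) g_Ws 3 := fun i hi =>
    ev_mem_gw γ (by interval_cases i <;> decide +kernel)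
  rw [eq_top_iff, ← C.gen]
  exact SlpTo.gp_le (SlpTo.step C.M C.base (by decide +kernel) h0 g_s0) (by decide +kernel)

end Cfsg.Agent.Co2C
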