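import Cfsg.Agent.Co2C.Cert
import Cfsg.Agent.Leech.Aut

set_option autoImplicit false
set_option Elab.async false
set_option maxRecDepth 100000
set_option linter.all false

namespace Cfsg.Agent.Co2C
open Cfsg.Agent.CGT

noncomputable def cu_l0 : Level := ⟨0, [[0], [2], [4], [6], [8], [10], [12], [14]], [7, 0, 2, 3, 4, 5, 7, 1, 6, 0, 4, 7, 5, 6, 0, 4, 6, 0], 0xfffffffffffffffffffffffffffffffffffffffffffffffffffffffffffffffffffffffffffffffffffffffffffffffffffffffffffffffffffffffffffffffffffffffffffffffffffffffffffffffffffffffffffffffffffffffffffffffffffffffffffffffffffffffffffffffffffffffffffffffffffffffffffffffffffffffffffffffffffffffffffffffffffffffffffffffffffffffffffffffffffffffffffffffffffffffffffffffffffffffffffffffffffffffffffffffffffffffffffffffffffffffffffffffffffffffffffffffffffffffffffffffffffffffffffffffffffffffffffffffffffffffffffffffffffffffffffffffffffffffffffffffffffffffffffffffffffffffffffffffffffffffffffffff,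 2300⟩
noncomputable def cu_l1 : Level := ⟨2, [[0], [2], [4], [6], [8], [10], [12]], [6, 0, 1, 3, 4, 5, 6, 0, 3, 5, 6, 1, 4, 0, 6, 3], 0x4b07bf74b7fd3e9668197b5722f6bb136c89bdfff0ed974aa293a35178deb97b72574ff6bca93dbaefec939bed8ee259305ed4f263b3dffe9de58b083af03d7b2f7dabdc5e13981b977afdf75d692df3dbdd799da0c65e296cc6506fcfaff5a872ba7a1e79539a3e7a7777475ae66e93fcff6c1797baff6d2753ac5d0273757bd7777521e41f9c58f8d7bceb5fd2abbffbcf7759f9cfd6f3e9659dd8faaff7fcb8b8cb332e9b1c7726db5ab467fbfddfeba948975c5ee99da77b43e0f27c032be6f5ff57246e3ae36a3efd569f4dbfb965bd77fedddbd9d5b15efbdfef52df6bea6f24ee64fea67a7c7ffbea5694b83a4efe16ee9e95bc27bd77faf1aa7e9d77f9f6d57789b95286b4eb723fdd8755632df7e57efdb7eab937f6eaedbdd6264, 1408⟩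
noncomputable def cu_l2 : Level := ⟨1392, [[0], [2], [4], [6], [8], [10]], [0, 1, 3, 4, 5, 2, 3, 0, 4, 1, 5, 4, 3, 5, 0], 0x42e3085913602401943162070bb134801bc7ff0e88608a292805058522939505142c2982818b2efec1213c882a251201484f06391d560850488001af03c380118aad00c13881b072851e4540825f28a9d591980021c296884400789a511a8228070143803823e1a37754548e64e90a8916c1297a8bd612450a84400117423d7426121e4150c40d850bc6944020081ab005519608316c2e86499c0782bc6f410a88922249a187604d958a026f2055f0aa040860052899c017b43601250022164c4ac55244c22e202147912844132b165b117fe5cc8c151111adbda8f12d163e80d00e6403aa26a5028706a1680b8204c3012e21c0508279c7472d1aa6e80469866c0200821128634627229d18404010152a536ad876809363048c8b5d6220, 840⟩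
noncomputable def cu_l3 : Level := ⟨401, [[6, 10, 0, 6, 8, 4, 10, 4, 2], [2, 10, 2, 6, 10, 2, 10, 6, 2, 0]], [0, 1, 0, 1, 0, 1, 0, 1, 0, 1, 0, 1, 0, 1], 0x101000080000000004a084a8c008004082464000001068a50148040401000080002010004104c20000022800100000004400000000000001000004a34108000040024021004802444800000080025200240000004410810001000010000000040c01808180040441000008000510010801000000000400801800528220048080008800480000010102000104800844400000008406000000000a022504500003030000841000230840040540100002000002140002200002500008040400441000000000030005088400000800200040804000000004200000810000000120100000d00110010004018000000022000480004000014043800000000210010200000902800200010002008000000888008200000000080400080110104008490, 243⟩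
noncomputable def cu_l4 : Level := ⟨2084, [[8, 4, 10, 8, 6, 4, 8, 10, 4, 8], [8, 0, 2, 10, 0, 10, 8, 2, 8, 2, 0, 8], [0, 8, 6, 10, 2, 0, 10, 6, 8, 4, 2, 8, 2], [4, 8, 0, 4, 10, 6, 10, 4, 10, 6, 8, 4, 2, 0]], [], 0x4000820000000800000000000000000300000000000000000000000000000000800000000000000000000000000000000000000100000000000000000000000010000000000000000000000000000000000000000000000000000000000040000210000000402000000000000000000010000000100000000000000000000000000000200000000000000000000000001000800000000000000000000000000000000008000000000000000000000000000000000000000002000000000020000000000000000000000002008000000000000000000022000000000000040000000000000000000000800000000000000000000010001000000010000000000000000000000000000000000200000000000000000, 32⟩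
noncomputable def cu_l5 : Level := ⟨1882, [[2, 6, 10, 2, 8, 4, 8, 2, 10, 6, 2]], [], 0x400000000000000000000000000000000000000000000000000000000000000000000000000000000000000000000000000000000000000000000000000000000000000000000000000000000000000000000000000000000000000000000000000000000000000000000000000000000000000000000000000000000000000000000000000000000000000000000000000000000000000000000000000000000000000000000000000000000000000000000000000000000000000000000000000000000000000000000000000000000000000000000000000000000000000000000000020000000000000, 2⟩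
noncomputable def cu_ls : List Level := [cu_l0, cu_l1, cu_l2, cu_l3, cu_l4, cu_l5]
noncomputable def cu_S : Srch := ⟨12, m_ts, (chainBase [] c_ls), [0, 4, 8, 10, 12, 14, 10, 8, 14, 8, 14, 12, 0, 6, 12, 10, 8, 6, 2, 10, 6, 10, 6, 8, 0, 2], [0, 4, 8, 10, 12, 14, 10, 8, 14, 8, 14, 12, 0, 6, 12, 10, 8, 6, 2, 10, 6, 10, 6, 8, 0, 2], []⟩
noncomputable def cu_lk : List ℕ := [1, 3, 1393, 402, 2085]
noncomputable def cu_tl : List Level := [cu_l1, cu_l2, cu_l3, cu_l4, cu_l5]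
noncomputable def cu_R0 : ℕ := 0x202040020002008002a200001408004012000000000028040c48000c00000488000000010240000000104420021101200001000000040000210004030001000000004801004002400008000800029200240000020100004001200000000000051807040100000101000201000019200011000148004100901810028000000000010002040000002104220204000000000000000044208400001040210010000100001080100000480100000810000000000005680081004200000800000000000000008051090508004002000020000012000000000021280a000000000510100110150100000904000000100000080010004880004043080200040050214280100108000044000000080000002082000000020402080006080000100200009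
theorem cu_l0_ok : (ptsOK 12 [] && (wordsIn [0, 2, 4, 6, 8, 10, 12, 14] cu_l0.S && cu_l0.ok 12 m_ns m_ts [])) = true := by decide +kernel
theorem cu_l1_ok : (ptsOK 12 [0] && (wordsIn [0, 2, 4, 6, 8, 10, 12, 14] cu_l1.S && cu_l1.ok 12 m_ns m_ts [0])) = true := by decide +kernel
theorem cu_l2_ok : (ptsOK 12 [2, 0] && (wordsIn [0, 2, 4, 6, 8, 10, 12, 14] cu_l2.S && cu_l2.ok 12 m_ns m_ts [2, 0])) = true := by decide +kernel
theorem cu_l3_ok : (ptsOK 12 [1392, 2, 0] && (wordsIn [0, 2, 4, 6, 8, 10, 12, 14] cu_l3.S && cu_l3.ok 12 m_ns m_ts [1392, 2, 0])) = true := by decide +kernel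
theorem cu_l4_ok : cu_l4.okT 12 m_ts [0, 2, 4, 6, 8, 10, 12, 14] [401, 1392, 2, 0] (.cons [0] (.cons [0] (.cons [6] .nil .nil) (.cons [2] .nil (.cons [3] .nil (.cons [4] (.cons [6] .nil .nil) (.cons [5] (.cons [6] .nil .nil) (.cons [6] .nil .nil)))))) (.cons [1] (.cons [4] (.cons [6] .nil .nil) (.cons [5] (.cons [6] .nil .nil) (.cons [6] .nil .nil))) (.cons [2] (.cons [4] .nil (.cons [6] .nil .nil)) (.cons [3] (.cons [5] .nil (.cons [6] .nil .nil)) (.cons [4] (.cons [6] .nil .nil) (.cons [5] (.cons [6] .nil .nil) (.cons [6] (.cons [0] .nil (.cons [1] .nil (.cons [4] .nil (.cons [5] .nil .nil)))) .nil))))))) = true := by decide +kernel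
theorem cu_l5_ok : cu_l5.okT 12 m_ts [0, 2, 4, 6, 8, 10, 12, 14] [2084, 401, 1392, 2, 0] (.cons [0] .nil .nil) = true := by decide +kernel
theorem cu_aux : cu_S.auxB [0, 2, 4, 6, 8, 10, 12, 14] cu_ls [] (0 :: cu_lk) = true := by decide +kernel
theorem cu_cov : Nat.beq (Nat.land cu_l0.O (Srch.cover m_ns (invW cu_S.u') cu_R0 10)) cu_l0.O = true := by decide +kernel
theorem cu_r0 : cu_S.run (.cons [] (.cons [] (.cons [] (.cons [] (.cons [] (.cons [] (.leaf 2000) .nil) .nil) .nil) .nil) .nil) (.cons [14] .nil (.cons [0, 14] (.cons [8, 0, 12, 0, 2, 12] .nil .nil) (.cons [2, 14] (.cons [0, 8, 4, 8, 2, 12] (.cons [2, 0, 10, 0, 10] .nil .nil) .nil) (.cons [4, 14] (.cons [0, 8, 12, 6, 0, 12] .nil .nil) (.cons [6, 14] (.cons [4, 8, 12, 6, 0, 12] (.cons [6, 10, 8, 4, 8] (.cons [3, 3, 0, 3] (.cons [6, 4, 1] .nil .nil) .nil) .nil) .nil) (.cons [8, 14] (.cons [4, 12, 4, 0, 12, 8, 12] .nil .nil) (.cons [10,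 14] .nil (.cons [12, 14] .nil (.cons [4, 0, 14] .nil (.cons [6, 0, 14] .nil (.cons [8, 0, 14] .nil (.cons [10, 0, 14] .nil (.cons [12, 0, 14] (.cons [2, 0, 12, 10, 8, 6, 12] (.cons [2, 8, 10] .nil .nil) .nil) (.cons [14, 0, 14] .nil (.cons [2, 8, 14] .nil (.cons [4, 8, 14] (.cons [0, 6, 10, 2, 6, 12] .nil .nil) (.cons [6, 8, 14] (.cons [6, 2, 12, 0, 2, 12] (.cons [2, 4, 10, 0] .nil .nil) .nil) (.cons [10, 8, 14] .nil (.cons [12, 8, 14] (.cons [8, 0, 12, 6, 2, 12] (.cons [2, 8, 2, 0, 8, 2] .nil .nil) .nil) (.cons [14, 8, 14] (.cons [12, 0, 2, 8, 0, 12] .nil .nil) (.cons [0, 12, 14] (.cons [0, 2, 12, 4, 8, 6, 12] .nil .nil) (.cons [2, 12, 14] .nil (.cons [4, 12, 14] (.cons [2, 12, 0, 2, 12] (.cons [10, 4, 10, 2, 10] .nil .nil) .nil) (.cons [14, 12, 14] (.cons [12, 10, 0, 2, 12] (.cons [0, 8, 0, 6] .nil .nil) .nil) (.cons [0, 4, 14] (.cons [6, 8, 12, 0, 2, 12] (.cons [6, 4, 8, 2] .nil .nil) .nil)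 (.cons [6, 4, 14] (.cons [0, 10, 0, 10, 12] (.cons [6, 8, 6, 0, 8] .nil .nil) .nil) (.cons [8, 4, 14] .nil (.cons [10, 4, 14] (.cons [6, 12, 4, 10, 2, 0, 12] .nil .nil) (.cons [12, 4, 14] (.cons [8, 12, 4, 12, 0, 12] (.cons [10, 6, 10, 2] .nil .nil) .nil) (.cons [14, 4, 14] (.cons [8, 6, 10, 8, 12] (.cons [8, 6, 2, 0] (.cons [0, 2, 1, 2, 0] .nil .nil) .nil) .nil) (.cons [0, 6, 14] (.cons [4, 2, 10, 12] (.cons [2, 10, 8, 4, 8] .nil .nil) .nil) (.cons [8, 6, 14] .nil (.cons [10, 6, 14] (.cons [2, 12, 6, 8, 12] .nil .nil) (.cons [12, 6, 14] .nil (.cons [14, 6, 14] .nil (.cons [2, 10, 14] (.cons [6, 12, 6, 8, 0, 6, 12] (.cons [8, 2, 4, 8, 0] .nil .nil) .nil) (.cons [4, 10, 14] .nil (.cons [8, 10, 14] .nil (.cons [12, 10, 14] (.cons [6, 10, 12, 8, 12] (.cons [6] (.cons [2, 1, 2, 1, 2] .nil .nil) .nil) .nil) (.cons [14, 10, 14] (.cons [2, 12, 4, 8, 6, 12] .nil .nil) (.cons [0, 2, 14] (.cons [10,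 6, 10, 12] (.cons [6, 2, 8] .nil .nil) .nil) (.cons [4, 2, 14] (.cons [4, 8, 12] (.cons [2, 10, 2, 0, 8] (.cons [0, 3, 3, 1, 2] .nil .nil) .nil) .nil) (.cons [6, 2, 14] (.cons [6, 2, 12, 8, 12] (.cons [4, 6] (.cons [1, 2, 1, 2] .nil .nil) .nil) .nil) (.cons [8, 2, 14] .nil (.cons [10, 2, 14] .nil (.cons [14, 2, 14] .nil (.cons [0, 8, 6, 14] .nil (.cons [2, 8, 6, 14] .nil (.cons [4, 8, 6, 14] (.cons [6, 0, 10, 6, 2, 12] (.cons [0, 10] .nil .nil) .nil) (.cons [6, 8, 6, 14] (.cons [10, 2, 12, 4, 8, 2, 12] (.cons [4, 10, 2, 8] .nil .nil) .nil) (.cons [10, 8, 6, 14] (.cons [0, 2, 12, 6, 10, 8, 12] (.cons [6, 8, 2, 0] .nil .nil) .nil) (.cons [12, 8, 6, 14] .nil (.cons [14, 8, 6, 14] (.cons [4, 6, 12, 2, 6, 12] (.cons [6, 4, 10, 2, 8] .nil .nil) .nil) (.cons [0, 12, 8, 14] .nil (.cons [2, 12, 8, 14] (.cons [0, 12, 2, 6, 8, 12] .nil .nil) (.cons [4, 12, 8, 14] (.cons [6, 0, 8, 12, 6, 2, 12] (.cons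 [8, 10, 8, 0, 8] .nil .nil) .nil) (.cons [6, 12, 8, 14] .nil (.cons [8, 12, 8, 14] .nil (.cons [10, 12, 8, 14] (.cons [8, 0, 6, 8, 12] .nil .nil) (.cons [14, 12, 8, 14] (.cons [8, 12, 10, 12, 2, 10, 12] .nil .nil) (.cons [0, 6, 4, 14] (.cons [10, 2, 12, 2, 6, 12] .nil .nil) (.cons [8, 6, 4, 14] (.cons [10, 4, 10, 2, 12] (.cons [6, 0, 10, 6] .nil .nil) .nil) (.cons [10, 6, 4, 14] (.cons [4, 12, 4, 8, 12] .nil .nil) (.cons [14, 6, 4, 14] (.cons [0, 12, 6, 12, 10, 12] (.cons [8, 10, 0, 2] (.cons [2, 2, 0, 3, 0] .nil .nil) .nil) .nil) (.cons [0, 14, 12, 14] .nil (.cons [6, 14, 12, 14] (.cons [0, 12, 4, 2, 12] .nil .nil) (.cons [8, 14, 12, 14] (.cons [0, 10, 2, 0, 12] (.cons [8, 6, 8, 6] .nil .nil) .nil) (.cons [10, 14, 12, 14] (.cons [4, 12, 0, 12, 0, 12] .nil .nil) (.cons [2, 10, 0, 14] (.cons [10, 12, 2, 0, 8, 12] (.cons [8, 6, 2] (.cons [1, 2] .nil .nil) .nil) .nil) (.cons [4, 10, 0, 14] (.cons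 [12, 8, 12, 4, 2, 10, 12] (.cons [2, 8, 0, 2] (.cons [2, 1, 3, 3, 1] .nil .nil) .nil) .nil) (.cons [6, 10, 0, 14] (.cons [12, 8, 10, 2, 4, 10, 12] .nil .nil) (.cons [8, 10, 0, 14] (.cons [12, 10, 8, 6, 12] .nil .nil) (.cons [12, 10, 0, 14] (.cons [10, 6, 12, 6, 12] .nil .nil) (.cons [14, 10, 0, 14] (.cons [0, 2, 6, 12] .nil .nil) (.cons [8, 0, 6, 14] (.cons [4, 2, 12, 10, 12] .nil .nil) (.cons [10, 0, 6, 14] (.cons [4, 8, 2, 6, 12] .nil .nil) (.cons [14, 0, 6, 14] .nil (.cons [0, 14, 8, 14] (.cons [12, 2, 4, 2, 12, 6, 12] .nil .nil) (.cons [4, 14, 8, 14] .nil (.cons [12, 14, 8, 14] (.cons [10, 2, 12, 8, 4, 0, 12] (.cons [10, 4, 8, 0, 2] (.cons [1, 3, 0, 2, 1] .nil .nil) .nil) .nil) (.cons [0, 4, 8, 14] .nil (.cons [2, 4, 8, 14] .nil (.cons [6, 4, 8, 14] (.cons [0, 10, 4, 10, 2, 12] (.cons [8, 0, 10, 2] .nil .nil) .nil) (.cons [8, 4, 8, 14] .nil (.cons [10, 0, 4, 14] .nil (.cons [2, 8, 2, 14]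 (.cons [12, 10, 0, 12, 10, 12] .nil .nil) (.cons [14, 8, 2, 14] (.cons [12, 6, 10, 12, 0, 12] .nil .nil) (.cons [2, 6, 8, 14] .nil (.cons [4, 6, 8, 14] (.cons [10, 2, 8, 4, 8, 12] .nil .nil) (.cons [8, 6, 8, 14] (.cons [4, 12, 4, 0, 12, 8, 12] (.cons [4, 8, 0, 4, 10] (.cons [3, 3] .nil .nil) .nil) .nil) (.cons [12, 6, 8, 14] .nil (.cons [2, 0, 12, 14] (.cons [8, 10, 4, 0, 10, 12] (.cons [4, 6] .nil .nil) .nil) (.cons [6, 0, 12, 14] .nil (.cons [8, 0, 12, 14] .nil (.cons [12, 0, 12, 14] (.cons [8, 12, 8, 0, 10, 12] (.cons [2, 8, 4, 0, 8] .nil .nil) .nil) (.cons [0, 12, 4, 14] (.cons [0, 4, 12, 0, 12] (.cons [10, 8, 4, 10] .nil .nil) .nil) (.cons [6, 12, 4, 14] (.cons [8, 12, 10, 0, 10, 12] (.cons [0, 6, 8, 2] .nil .nil) .nil) (.cons [8, 12, 4, 14] .nil (.cons [14, 12, 4, 14] (.cons [10, 12, 8, 2, 6, 12] .nil .nil) (.cons [4, 12, 6, 14] (.cons [0, 6, 12, 2, 0, 12] (.cons [2, 10, 8, 10] .nil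 .nil) .nil) (.cons [10, 12, 6, 14] .nil (.cons [14, 12, 6, 14] (.cons [8, 12, 6, 4, 8, 12] (.cons [2, 10, 2, 10] .nil .nil) .nil) (.cons [8, 0, 2, 14] .nil (.cons [10, 0, 2, 14] .nil (.cons [12, 0, 2, 14] (.cons [8, 10, 6, 12] (.cons [0, 10, 0, 8] .nil .nil) .nil) (.cons [4, 2, 8, 14] (.cons [0, 12, 0, 10, 12, 0, 12] .nil .nil) (.cons [6, 2, 8, 14] .nil (.cons [10, 2, 8, 14] (.cons [2, 10, 0, 12, 4, 8, 12] .nil .nil) (.cons [4, 14, 2, 14] (.cons [10, 4, 12, 4, 8, 12] (.cons [4, 2, 8] .nil .nil) .nil) (.cons [12, 14, 2, 14] (.cons [12, 8, 12, 0, 6, 12] (.cons [0, 6, 10, 8] (.cons [0, 3, 0, 3] .nil .nil) .nil) .nil) (.cons [0, 10, 6, 14] (.cons [6, 2, 12, 10, 12, 8, 12] (.cons [10, 0, 4, 8, 2] .nil .nil) .nil) (.cons [8, 10, 6, 14] .nil (.cons [12, 10, 6, 14] .nil (.cons [14, 10, 6, 14] (.cons [8, 4, 8, 12, 2, 0, 12] .nil .nil) (.cons [6, 2, 12, 14] .nil (.cons [8, 2, 12, 14] (.cons [4, 10,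 12, 6, 0, 12] (.cons [2, 4, 10, 0, 6] .nil .nil) .nil) (.cons [12, 2, 12, 14] (.cons [0, 2, 12, 8, 12] (.cons [8, 6, 4, 8, 10, 6] .nil .nil) .nil) (.cons [14, 2, 12, 14] (.cons [0, 8, 12, 0, 6, 10, 12] .nil .nil) (.cons [0, 8, 0, 14] (.cons [4, 2, 12, 8, 12] (.cons [8, 4, 8] .nil .nil) .nil) (.cons [4, 8, 0, 14] .nil (.cons [6, 8, 0, 14] .nil (.cons [2, 14, 6, 14] (.cons [0, 2, 10, 12, 0, 12] (.cons [10, 6, 0, 10, 8] (.cons [3, 0, 0, 2, 0] .nil .nil) .nil) .nil) (.cons [4, 14, 6, 14] (.cons [10, 12, 0, 12, 0, 12] (.cons [8, 10, 8, 2, 8] .nil .nil) .nil) (.cons [8, 14, 6, 14] .nil (.cons [12, 14, 6, 14] (.cons [10, 12, 6, 10, 8, 12] (.cons [6, 0, 10, 0] .nil .nil) .nil) (.cons [8, 4, 0, 14] (.cons [10, 8, 12, 8, 6, 12] (.cons [10, 2, 10, 8, 6] .nil .nil) .nil) (.cons [14, 10, 2, 14] .nil (.cons [4, 8, 10, 14] (.cons [12, 10, 2, 0, 12] .nil .nil) (.cons [14, 4, 10, 14] (.cons [6, 12, 2, 4, 2,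 12] (.cons [8, 6, 8, 4, 0] .nil .nil) .nil) (.cons [6, 10, 8, 14] .nil (.cons [12, 10, 8, 14] .nil (.cons [14, 10, 8, 14] (.cons [6, 4, 12, 8, 6, 12] (.cons [8, 4, 8, 2] .nil .nil) .nil) (.cons [0, 10, 4, 14] (.cons [10, 12, 6, 12, 10, 12] .nil .nil) (.cons [8, 10, 4, 14] .nil (.cons [12, 10, 4, 14] (.cons [10, 2, 6, 8, 12] (.cons [2, 10, 2, 8, 6] .nil .nil) .nil) (.cons [10, 2, 10, 14] (.cons [6, 12, 0, 10, 12] .nil .nil) (.cons [12, 2, 10, 14] .nil (.cons [14, 4, 2, 14] (.cons [0, 6, 12, 2, 6, 12] .nil .nil) (.cons [0, 12, 2, 14] (.cons [8, 12, 8, 4, 10, 12] .nil .nil) (.cons [4, 12, 2, 14] (.cons [2, 12, 10, 8, 6, 12] (.cons [2, 0, 8, 10] (.cons [3, 0, 2] (.cons [6, 3] .nil .nil) .nil) .nil) .nil) (.cons [6, 12, 2, 14] (.cons [10, 6, 10, 0, 12] (.cons [8, 2, 8, 0] .nil .nil) .nil) (.cons [2, 14, 10, 14] (.cons [10, 2, 10, 12] (.cons [0, 6, 2, 8, 6] .nil .nil) .nil) (.cons [4, 14, 10, 14]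 .nil (.cons [12, 14, 10, 14] (.cons [2, 8, 4, 10, 2, 12] (.cons [10, 2, 8] .nil .nil) .nil) (.cons [0, 4, 12, 14] (.cons [12, 10, 4, 8, 12] .nil .nil) (.cons [6, 4, 12, 14] .nil (.cons [10, 6, 0, 14] (.cons [10, 6, 10, 12, 8, 12] (.cons [2, 4, 8, 2] .nil .nil) .nil) (.cons [12, 6, 0, 14] (.cons [4, 10, 8, 6, 0, 12] (.cons [8, 4, 6, 10, 8] (.cons [0, 2, 0, 3, 0, 3] .nil .nil) .nil) .nil) (.cons [0, 8, 4, 14] (.cons [12, 8, 10, 6, 8, 12] (.cons [10, 8, 4, 8] .nil .nil) .nil) (.cons [14, 8, 4, 14] .nil (.cons [12, 4, 6, 14] (.cons [4, 8, 12, 0, 6, 12] .nil .nil) (.cons [14, 12, 0, 14] .nil (.cons [8, 14, 0, 14] .nil (.cons [10, 14, 0, 14] (.cons [6, 2, 12, 6, 12] .nil .nil) (.cons [12, 14, 0, 14] .nil (.cons [6, 12, 10, 14] .nil (.cons [14, 12, 10, 14] (.cons [6, 4, 10, 0, 12] (.cons [6, 0, 10, 8] .nil .nil) .nil) (.cons [14, 6, 2, 14] (.cons [8, 4, 8, 12, 2, 6, 12] (.cons [6, 10, 8] .nil .nil)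 .nil) (.cons [0, 12, 4, 10, 14] (.cons [2, 10, 0, 12, 8, 2, 12] (.cons [6, 2, 10, 8, 10] .nil .nil) .nil) (.cons [2, 12, 4, 10, 14] (.cons [12, 10, 0, 12, 8, 12] .nil .nil) (.cons [8, 12, 4, 10, 14] (.cons [4, 0, 12, 2, 10, 12] .nil .nil) (.cons [2, 6, 14, 2, 14] (.cons [0, 10, 4, 0, 12] (.cons [4, 10, 4, 6] .nil .nil) .nil) (.cons [8, 2, 4, 8, 14] (.cons [0, 10, 12, 0, 12] (.cons [0, 8, 4, 0] (.cons [2, 1, 1, 3, 0, 2] .nil .nil) .nil) .nil) (.cons [8, 0, 12, 4, 14] .nil (.cons [12, 0, 12, 4, 14] .nil (.cons [0, 8, 14, 2, 14] (.cons [12, 8, 12, 0, 10, 12] (.cons [0, 10, 8, 2] .nil .nil) .nil) (.cons [2, 8, 14, 2, 14] (.cons [6, 8, 10, 12, 8, 12] (.cons [0, 8, 2, 0] .nil .nil) .nil) (.cons [14, 10, 12, 6, 14] (.cons [12, 10, 12, 8, 0, 10, 12] (.cons [8, 10, 4, 2, 8] .nil .nil) .nil) (.cons [10, 4, 14, 8, 14] .nil (.cons [0, 8, 0, 6, 14] .nil (.cons [8, 14, 6, 0, 14] (.cons [6, 4, 12, 6, 8,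 12] (.cons [2, 8, 0] .nil .nil) .nil) (.cons [12, 14, 6, 0, 14] .nil (.cons [10, 2, 14, 6, 14] .nil (.cons [0, 4, 12, 6, 14] (.cons [12, 10, 6, 10, 0, 12] (.cons [8, 6, 0, 8, 6] .nil .nil) .nil) (.cons [14, 4, 12, 6, 14] .nil (.cons [6, 10, 14, 12, 14] (.cons [4, 10, 0, 6, 10, 12] (.cons [4, 0, 8, 2, 0] .nil .nil) .nil) (.cons [12, 8, 0, 12, 14] .nil (.cons [14, 8, 0, 12, 14] .nil (.cons [0, 10, 8, 2, 14] .nil (.cons [0, 10, 2, 8, 14] (.cons [10, 8, 12, 2, 0, 8, 12] .nil .nil) (.cons [0, 12, 10, 4, 14] .nil (.cons [0, 12, 10, 0, 14] (.cons [2, 4, 12, 8, 6, 12] (.cons [6, 4, 8, 6, 8, 10] .nil .nil) .nil) (.cons [10, 4, 8, 10, 14] (.cons [8, 4, 8, 12, 2, 0, 12] .nil .nil) (.cons [8, 12, 6, 4, 14] (.cons [2, 10, 8, 12] .nil .nil) (.cons [14, 12, 6, 4, 14] (.cons [0, 12, 0, 12] .nil .nil) (.cons [8, 4, 6, 8, 14] (.cons [0, 8, 2, 6, 12] (.cons [2, 0, 8, 0, 10] (.cons [2, 1, 2, 1, 2] (.cons [5,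 1] .nil .nil) .nil) .nil) .nil) (.cons [8, 14, 10, 8, 14] .nil (.cons [0, 8, 4, 0, 14] (.cons [12, 2, 0, 12, 10, 12] .nil .nil) (.cons [6, 8, 4, 0, 14] .nil (.cons [12, 8, 12, 6, 14] .nil (.cons [6, 12, 2, 10, 14] (.cons [4, 0, 12, 6, 12] .nil .nil) (.cons [0, 14, 6, 2, 14] (.cons [6, 12, 6, 8, 12] (.cons [0, 10, 2, 4, 8] .nil .nil) .nil) (.cons [0, 12, 4, 2, 14] .nil (.cons [6, 14, 10, 4, 14] (.cons [0, 12, 8, 0, 6, 10, 12] (.cons [2, 4, 10, 8, 4, 8] .nil .nil) .nil) (.cons [14, 2, 4, 12, 14] (.cons [8, 10, 6, 4, 8, 12] (.cons [0, 6, 10, 0, 2, 6] .nil .nil) .nil) (.cons [8, 10, 14, 8, 14] .nil (.cons [12, 6, 12, 6, 14] (.cons [6, 10, 12, 8, 6, 12] (.cons [10, 6, 4, 8] .nil .nil) .nil) (.cons [14, 6, 10, 8, 14] .nil (.cons [12, 4, 0, 12, 14] (.cons [2, 6, 10, 12] (.cons [2, 10, 4, 10, 6] (.cons [2, 1, 3, 0, 2] .nil .nil) .nil) .nil) (.cons [10, 2, 12, 2, 14] (.cons [0, 10, 12, 8, 2, 12] (.cons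 [2, 10, 0, 8] (.cons [2, 1, 2, 0, 2] (.cons [6, 5, 0] .nil .nil) .nil) .nil) .nil) (.cons [14, 2, 12, 6, 14] .nil (.cons [14, 8, 10, 8, 14] (.cons [2, 10, 12, 2, 6, 8, 12] (.cons [6, 8, 2, 0] .nil .nil) .nil) (.cons [8, 4, 14, 0, 14] (.cons [6, 10, 0, 12, 0, 12] .nil .nil) (.cons [6, 10, 6, 4, 14] .nil (.cons [0, 8, 12, 4, 14] (.cons [10, 6, 12, 8, 6, 12] (.cons [8, 10, 0, 2] .nil .nil) .nil) (.cons [8, 2, 10, 0, 14] (.cons [6, 0, 12, 2, 10, 12] (.cons [0, 2, 10, 0, 6] (.cons [3, 0, 3, 0, 3] .nil .nil) .nil) .nil) (.cons [14, 6, 12, 0, 14] .nil (.cons [12, 14, 10, 0, 14] .nil (.cons [10, 14, 2, 10, 14, 12, 14] .nil .nil)))))))))))))))))))))))))))))))))))))))))))))))))))))))))))))))))))))))))))))))))))))))))))))))))))))))))))))))))))))))))))))))))))))))))))))))))))))))))))))))))))))))))))))))))))))))))))))))))))))))))))))))))) (⟨cu_l0.b, cu_l0.S, [], cu_R0, 0⟩ :: cu_tl) (0 :: cu_lk) Pd.nil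 0 = true := by decide +kernel
theorem cu_sound {G : Type*} [Group G] {φ : G →* Equiv.Perm ℕ} {γ : ℕ → G}
    (M : Model φ γ 12 m_ns m_ts) : ChainSound φ (gp γ [0, 2, 4, 6, 8, 10, 12, 14]) 12 [] cu_ls :=
  ⟨Level.ok_sound' M cu_l0_ok,
   Level.ok_sound' M cu_l1_ok,
   Level.ok_sound' M cu_l2_ok,
   Level.ok_sound' M cu_l3_ok,
   Level.okT_sound M cu_l4_ok,
   Level.okT_sound M cu_l5_ok, trivial⟩
theorem cu_cent {G : Type*} [Group G] {φ : G →* Equiv.Perm ℕ} {γ : ℕ → G}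
    (C : Cert φ γ 12 m_ns m_ts [0, 2, 4, 6, 8, 10, 12, 14] c_ls) : Cent γ cu_S.u cu_S.Cl 10 :=
  have X := (C.rechain (cu_sound C.M) (by decide +kernel)).exact
  have A := Srch.auxB_sound (S := cu_S) C.M (K := ⊤) le_top rfl cu_aux
  have F := fun {tr : Tr} {R : ℕ} => Srch.found_of_run (S := cu_S) C.M C.base (by decide +kernel) X A (tr := tr) (R := R)
  Cent.of_found (S := cu_S) C.M X rfl (F cu_r0) cu_cov

end Cfsg.Agent.Co2C
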