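import Cfsg.Agent.Co2C.Cert
import Cfsg.Agent.Leech.Aut

set_option autoImplicit false
set_option Elab.async false
set_option maxRecDepth 100000
set_option linter.all false

namespace Cfsg.Agent.Co2C
open Cfsg.Agent.CGT

noncomputable def cx_l0 : Level := ⟨0, [[0], [2], [4], [6], [8], [10], [12], [14]], [7, 0, 2, 3, 4, 5, 7, 1, 6, 0, 4, 7, 5, 6, 0, 4, 6, 0], 0xfffffffffffffffffffffffffffffffffffffffffffffffffffffffffffffffffffffffffffffffffffffffffffffffffffffffffffffffffffffffffffffffffffffffffffffffffffffffffffffffffffffffffffffffffffffffffffffffffffffffffffffffffffffffffffffffffffffffffffffffffffffffffffffffffffffffffffffffffffffffffffffffffffffffffffffffffffffffffffffffffffffffffffffffffffffffffffffffffffffffffffffffffffffffffffffffffffffffffffffffffffffffffffffffffffffffffffffffffffffffffffffffffffffffffffffffffffffffffffffffffffffffffffffffffffffffffffffffffffffffffffffffffffffffffffffffffffffffffffffffffffffffffffffff, 2300⟩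
noncomputable def cx_l1 : Level := ⟨2, [[0], [2], [4], [6], [8], [10], [12]], [6, 0, 1, 3, 4, 5, 6, 0, 3, 5, 6, 1, 4, 0, 6, 3], 0x4b07bf74b7fd3e9668197b5722f6bb136c89bdfff0ed974aa293a35178deb97b72574ff6bca93dbaefec939bed8ee259305ed4f263b3dffe9de58b083af03d7b2f7dabdc5e13981b977afdf75d692df3dbdd799da0c65e296cc6506fcfaff5a872ba7a1e79539a3e7a7777475ae66e93fcff6c1797baff6d2753ac5d0273757bd7777521e41f9c58f8d7bceb5fd2abbffbcf7759f9cfd6f3e9659dd8faaff7fcb8b8cb332e9b1c7726db5ab467fbfddfeba948975c5ee99da77b43e0f27c032be6f5ff57246e3ae36a3efd569f4dbfb965bd77fedddbd9d5b15efbdfef52df6bea6f24ee64fea67a7c7ffbea5694b83a4efe16ee9e95bc27bd77faf1aa7e9d77f9f6d57789b95286b4eb723fdd8755632df7e57efdb7eab937f6eaedbdd6264, 1408⟩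
noncomputable def cx_l2 : Level := ⟨701, [[0], [2], [4], [6], [8], [10]], [0, 1, 2, 4, 5, 1, 2, 3, 4, 0, 5, 1, 4, 5], 0x42e3085913602401943162070bb134801bc7ff0e88608a292805058522939505142c2982818b2efec1213c882a251201484f06391d560850488001af03c380118aad00c13881b072851e4540825f28a9d591980021c296884400789a511a8228070143803823e1a37754548e64e90a8916c1297a8bd612450a84400117423d7426121e4150c40d850bc6944020081ab005519608316c2e86499c0782bc6f410a88922249a187604d958a026f2055f0aa040860052899c017b43601250022164c4ac55244c22e202147912844132b165b117fe5cc8c151111adbda8f12d163e80d00e6403aa26a5028706a1680b8204c3012e21c0508279c7472d1aa6e80469866c0200821128634627229d18404010152a536ad876809363048c8b5d6220, 840⟩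
noncomputable def cx_l3 : Level := ⟨2054, [[10, 4, 2, 8, 2, 10, 0, 6, 8], [6, 8, 10, 2, 8, 10, 2, 6, 8, 6, 0], [2, 10, 8, 6, 8, 2, 4, 8, 0, 8, 2, 6]], [0, 1, 0, 2, 0, 1, 0, 1, 0, 2, 0, 0, 1], 0xa0000800000000022000804008004402504000001248201c00400e01000400002800000304000410026820000108028b0100000000000120001081000e00040000102100c822c0000000008214c000200000204d09a04211200010304000420c4101800424000085000010240800000000900000050090000000820808888000808018002021030700001000005400000000000210000410004026005000000200008040006180c804050000000220001017602320020200000808080018540000008042000414000000000000000090000000000400080200002000282010000081001801000000800010010900000100c00000004000020004000080600002002200004001000000804000100814020802800208040000000002000140a, 243⟩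
noncomputable def cx_l4 : Level := ⟨1896, [[8, 10, 8, 10, 8, 0, 6, 0], [4, 6, 4, 8, 10, 8, 10, 8, 0, 6, 0], [4, 10, 4, 10, 6, 10, 4, 10, 0, 8, 0, 2]], [], 0x4000000000000000000000008000000000000000000200008080000000000000000400000000000004000000001002002000000000000000000000000000000000000000000000000000000100000000000000000000000000040000000000000000004000000000000000002000000000000001000000000000000000000000000000000000000040000000020000800800000000000000000008000000000000000000000000000000000000000008000000000000000000000000000100000000000022000000000800000000000001000000000004000000000000000000000000000002000000000000800000000000000000000000000000010000000000000000000000000000000400000000000020000000000000000, 32⟩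
noncomputable def cx_l5 : Level := ⟨2055, [[10, 0, 6, 10, 4, 10, 6, 0, 10]], [], 0x8000000000000000000000000000000000000000000000000000000000000000000000000000000000000000000000000000000000000000000000000000000000000000000000000000000000000000000000000000000000000000000000000000000000000000000000000000000000000000000000000000000000000000000000000000000000000000000000000000000000000000000000000000000000000000000000000000000000000000000000000000000000000000000000000000000000000000000000000000000000000000000000000000000000000000000000000000000000000002000000000000000000000000000000000000000000, 2⟩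
noncomputable def cx_ls : List Level := [cx_l0, cx_l1, cx_l2, cx_l3, cx_l4, cx_l5]
noncomputable def cx_S : Srch := ⟨12, m_ts, (chainBase [] c_ls), [12, 8, 6, 0, 8, 6, 14, 4, 2, 10, 0, 6, 14, 4, 2, 10, 0, 8, 0, 6, 8, 12], [12, 8, 6, 0, 8, 6, 14, 4, 2, 10, 0, 6, 14, 4, 2, 10, 0, 8, 0, 6, 8, 12], []⟩
noncomputable def cx_lk : List ℕ := [1, 3, 702, 2055, 1897]
noncomputable def cx_tl : List Level := [cx_l1, cx_l2, cx_l3, cx_l4, cx_l5]
noncomputable def cx_R0 : ℕ := 0x2000022000000400004010000000000008001000000c00004000010000010200000000020020001000248000000400040000200004000000000000000001000402000800000000009000000000200100000000000000000000041005000000000001000001000000000001000140000000901000400000000200000002040000002100080200000000000000000000000400001040010000000000001040000002000000000810000000010005200080010200000800000000000000000000000000000000012000000010000000000000200a000800000404100000180180000000000000100000080010000080000040000200040000804000000000000044000000000008000000000000000400080002000000100000001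
theorem cx_l0_ok : (ptsOK 12 [] && (wordsIn [0, 2, 4, 6, 8, 10, 12, 14] cx_l0.S && cx_l0.ok 12 m_ns m_ts [])) = true := by decide +kernel
theorem cx_l1_ok : (ptsOK 12 [0] && (wordsIn [0, 2, 4, 6, 8, 10, 12, 14] cx_l1.S && cx_l1.ok 12 m_ns m_ts [0])) = true := by decide +kernel
theorem cx_l2_ok : (ptsOK 12 [2, 0] && (wordsIn [0, 2, 4, 6, 8, 10, 12, 14] cx_l2.S && cx_l2.ok 12 m_ns m_ts [2, 0])) = true := by decide +kernel
theorem cx_l3_ok : (ptsOK 12 [701, 2, 0] && (wordsIn [0, 2, 4, 6, 8, 10, 12, 14] cx_l3.S && cx_l3.ok 12 m_ns m_ts [701, 2, 0])) = true := by decide +kernel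
theorem cx_l4_ok : cx_l4.okT 12 m_ts [0, 2, 4, 6, 8, 10, 12, 14] [2054, 701, 2, 0] (.cons [0] (.cons [0] (.cons [0] (.cons [2] .nil .nil) (.cons [2] .nil .nil)) (.cons [2] (.cons [4] .nil (.cons [5] .nil .nil)) (.cons [4] .nil (.cons [5] .nil .nil)))) (.cons [1] (.cons [1] (.cons [1] (.cons [2] .nil .nil) (.cons [2] .nil (.cons [4] .nil (.cons [5] .nil .nil)))) (.cons [2] (.cons [4] .nil (.cons [5] .nil .nil)) (.cons [4] .nil (.cons [5] .nil .nil)))) (.cons [2] (.cons [4] .nil (.cons [5] (.cons [5] .nil .nil) .nil)) (.cons [4] (.cons [2] .nil .nil) (.cons [5] (.cons [2] .nil (.cons [5] .nil .nil)) .nil))))) = true := by decide +kernel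
theorem cx_l5_ok : cx_l5.okT 12 m_ts [0, 2, 4, 6, 8, 10, 12, 14] [1896, 2054, 701, 2, 0] (.cons [0] .nil .nil) = true := by decide +kernel
theorem cx_aux : cx_S.auxB [0, 2, 4, 6, 8, 10, 12, 14] cx_ls [] (0 :: cx_lk) = true := by decide +kernel
theorem cx_cov : Nat.beq (Nat.land cx_l0.O (Srch.cover m_ns (invW cx_S.u') cx_R0 22)) cx_l0.O = true := by decide +kernel
theorem cx_r0 : cx_S.run (.cons [] (.cons [] (.cons [] (.cons [] (.cons [] (.cons [] (.leaf 2000) .nil) .nil) .nil) .nil) .nil) (.cons [14] .nil (.cons [0, 14] (.cons [8, 2, 8, 2, 0, 12] (.cons [2, 8, 4, 0] .nil .nil) .nil) (.cons [2, 14] (.cons [6, 12, 2, 12, 6, 12] (.cons [10, 4, 10, 8, 0, 2] (.cons [4, 3, 1, 2, 1] .nil .nil) .nil) .nil) (.cons [4, 14] .nil (.cons [6, 14] (.cons [2, 10, 8, 12] .nil .nil) (.cons [8, 14] .nil (.cons [10, 14] (.cons [6, 0, 10, 0, 12] (.cons [6, 8, 2, 10, 2] .nil .nil) .nil) (.cons [12, 14] (.cons [4, 2, 12, 6, 8, 12] (.cons [8, 10, 0, 8, 4]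 .nil .nil) .nil) (.cons [4, 0, 14] (.cons [10, 0, 4, 12, 6, 2, 12] (.cons [2, 6, 10, 0, 8] (.cons [3, 5, 3] .nil .nil) .nil) .nil) (.cons [6, 0, 14] (.cons [12, 10, 4, 12, 8, 12] (.cons [0, 2, 10, 4, 10] .nil .nil) .nil) (.cons [8, 0, 14] .nil (.cons [10, 0, 14] (.cons [10, 6, 12, 6, 12] .nil .nil) (.cons [12, 0, 14] .nil (.cons [14, 0, 14] .nil (.cons [4, 8, 14] (.cons [8, 12, 8, 4, 10, 12] (.cons [2, 6] .nil .nil) .nil) (.cons [6, 8, 14] .nil (.cons [10, 8, 14] .nil (.cons [14, 8, 14] .nil (.cons [0, 12, 14] (.cons [8, 2, 10, 2, 12] (.cons [6, 2, 8, 0, 8] .nil .nil) .nil) (.cons [2, 12, 14] (.cons [8, 2, 10, 2, 12] .nil .nil) (.cons [4, 12, 14] (.cons [2, 10, 4, 6, 8, 12] (.cons [8, 2, 10, 0, 6] (.cons [2, 4, 1, 3] .nil .nil) .nil) .nil) (.cons [0, 4, 14] (.cons [6, 12, 6, 8, 12] (.cons [10, 6, 8, 0] .nil .nil) .nil) (.cons [6, 4, 14] (.cons [12, 4, 6, 12] (.cons [0, 8, 10, 0, 4] (.cons [4, 3, 1, 2, 1] .nil .nil) .nil) .nil) (.cons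 [10, 4, 14] (.cons [0, 12, 4, 2, 10, 12] .nil .nil) (.cons [12, 4, 14] .nil (.cons [14, 4, 14] (.cons [8, 10, 2, 6, 12] (.cons [4, 10, 4, 0, 8] .nil .nil) .nil) (.cons [0, 6, 14] .nil (.cons [4, 6, 14] (.cons [8, 10, 12, 2, 6, 12] (.cons [8, 10] .nil .nil) .nil) (.cons [8, 6, 14] (.cons [8, 2, 12, 10, 2, 0, 12] (.cons [8, 2, 6, 8, 2] (.cons [4, 2] .nil .nil) .nil) .nil) (.cons [10, 6, 14] (.cons [4, 10, 0, 2, 6, 12] (.cons [6, 0, 10] (.cons [3, 3, 0, 5] .nil .nil) .nil) .nil) (.cons [14, 6, 14] (.cons [6, 10, 12, 8, 6, 12] .nil .nil) (.cons [4, 10, 14] (.cons [10, 12, 10, 0, 10, 12] (.cons [6, 10, 0, 6] .nil .nil) .nil) (.cons [8, 10, 14] (.cons [12, 8, 12] .nil .nil) (.cons [12, 10, 14] .nil (.cons [14, 10, 14] .nil (.cons [4, 2, 14] (.cons [12, 2, 0, 8, 12] .nil .nil) (.cons [6, 2, 14] .nil (.cons [8, 2, 14] (.cons [12, 6, 12, 0, 12] (.cons [2, 4, 8] .nil .nil) .nil) (.cons [14, 2, 14] (.cons [0, 12, 4, 8, 12] (.cons [4, 8, 4, 8,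 0] .nil .nil) .nil) (.cons [2, 8, 6, 14] (.cons [4, 12, 8, 2, 6, 12] (.cons [10, 2, 10, 2, 10] .nil .nil) .nil) (.cons [6, 8, 6, 14] (.cons [0, 8, 0, 6, 12] (.cons [6, 10, 6, 2, 10, 6] .nil .nil) .nil) (.cons [0, 12, 8, 14] (.cons [8, 0, 12, 4, 2, 12] .nil .nil) (.cons [4, 12, 8, 14] (.cons [0, 12, 10, 12, 6, 8, 12] (.cons [4, 8, 2, 10] .nil .nil) .nil) (.cons [8, 12, 8, 14] (.cons [10, 12, 0, 12, 0, 6, 12] (.cons [6, 8, 10, 8, 0, 6] .nil .nil) .nil) (.cons [0, 6, 4, 14] .nil (.cons [10, 6, 4, 14] (.cons [8, 0, 2, 6, 12] (.cons [8, 4, 8, 0] (.cons [0, 3, 1, 2] .nil .nil) .nil) .nil) (.cons [0, 14, 12, 14] .nil (.cons [2, 14, 12, 14] (.cons [10, 4, 6, 8, 12] .nil .nil) (.cons [8, 14, 12, 14] .nil (.cons [2, 10, 0, 14] (.cons [0, 12, 10, 8, 6, 12] .nil .nil) (.cons [4, 10, 0, 14] (.cons [0, 2, 12, 0, 12] .nil .nil) (.cons [6, 10, 0, 14] (.cons [8, 12, 10, 8, 2, 6, 12] .nil .nil) (.cons [14, 10, 0, 14] .nil (.cons [14, 0, 6, 14] (.cons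 [12, 10, 2, 4, 10, 12] .nil .nil) (.cons [4, 14, 8, 14] .nil (.cons [6, 14, 8, 14] (.cons [0, 8, 2, 6, 12] (.cons [8, 2, 0, 10, 2] .nil .nil) .nil) (.cons [12, 14, 8, 14] (.cons [0, 2, 12, 2, 12, 6, 12] (.cons [8, 10, 2, 10, 4, 0] .nil .nil) .nil) (.cons [10, 0, 4, 14] .nil (.cons [14, 0, 4, 14] (.cons [8, 12, 10, 8, 2, 6, 12] .nil .nil) (.cons [2, 8, 2, 14] (.cons [12, 8, 6, 2, 12] (.cons [4, 6, 2, 8, 10, 2] .nil .nil) .nil) (.cons [10, 8, 2, 14] (.cons [12, 0, 10, 4, 2, 12] (.cons [4, 8, 10, 0, 2, 10] .nil .nil) .nil) (.cons [14, 8, 2, 14] .nil (.cons [2, 6, 8, 14] (.cons [2, 8, 0, 8, 12] .nil .nil) (.cons [4, 6, 8, 14] .nil (.cons [6, 12, 4, 14] (.cons [4, 10, 0, 10, 12] (.cons [8, 6, 10] .nil .nil) .nil) (.cons [2, 12, 6, 14] (.cons [4, 12, 8, 2, 6, 12] (.cons [6, 10, 6, 10, 8] .nil .nil) .nil) (.cons [10, 12, 6, 14] .nil (.cons [8, 0, 2, 14] .nil (.cons [0, 2, 8, 14] (.cons [8, 2, 12, 2, 6, 12] .nil .nil) (.cons [4, 10, 6, 14]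 (.cons [10, 0, 10, 12] (.cons [4, 8, 6, 10] .nil .nil) .nil) (.cons [4, 2, 12, 14] (.cons [2, 12, 4, 0, 8, 0, 12] (.cons [4, 8, 4, 6, 10] (.cons [3, 1, 1, 2] .nil .nil) .nil) .nil) (.cons [0, 8, 0, 14] (.cons [8, 0, 2, 6, 12] (.cons [10, 0, 2, 10, 6] (.cons [2, 0, 3] .nil .nil) .nil) .nil) (.cons [14, 8, 0, 14] (.cons [10, 12, 0, 8, 0, 12] .nil .nil) (.cons [2, 14, 6, 14] .nil (.cons [8, 4, 0, 14] (.cons [10, 12, 2, 10, 6, 12] (.cons [2, 10, 4, 0] (.cons [4] .nil .nil) .nil) .nil) (.cons [10, 4, 0, 14] (.cons [8, 0, 6, 8, 12] (.cons [2, 6, 10, 0, 6] .nil .nil) .nil) (.cons [4, 10, 2, 14] (.cons [8, 6, 12, 4, 8, 12] .nil .nil) (.cons [8, 4, 10, 14] (.cons [10, 12, 10, 0, 10, 12] .nil .nil) (.cons [14, 10, 8, 14] (.cons [2, 12, 10, 6, 10, 2, 12] .nil .nil) (.cons [12, 4, 2, 14] .nil (.cons [8, 12, 2, 14] (.cons [12, 8, 6, 10, 12] .nil .nil) (.cons [0, 14, 10, 14] .nil (.cons [2, 14, 10, 14] (.cons [4, 8, 12, 0, 6, 12] .nil .nil) (.cons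 [2, 4, 12, 14] (.cons [8, 6, 2, 12, 8, 12] (.cons [8, 4, 8, 6] (.cons [1, 3, 1] .nil .nil) .nil) .nil) (.cons [10, 6, 0, 14] .nil (.cons [14, 4, 6, 14] .nil (.cons [12, 14, 0, 14] (.cons [2, 10, 12] (.cons [4, 8, 4, 6, 8] (.cons [3, 1, 4, 1] .nil .nil) .nil) .nil) (.cons [0, 12, 4, 10, 14] (.cons [0, 8, 12, 2, 6, 12] (.cons [2, 6, 8, 4, 8] (.cons [2, 4, 0, 2] (.cons [2, 1] .nil .nil) .nil) .nil) .nil) (.cons [4, 12, 4, 10, 14] (.cons [0, 8, 12, 8, 6, 12] .nil .nil) (.cons [8, 12, 4, 10, 14] .nil (.cons [14, 0, 12, 4, 14] (.cons [12, 8, 12, 10, 2, 10, 12] (.cons [4, 10, 0, 8] .nil .nil) .nil) (.cons [2, 10, 12, 6, 14] .nil (.cons [4, 10, 12, 6, 14] .nil (.cons [4, 10, 14, 12, 14] .nil (.cons [2, 10, 2, 8, 14] .nil (.cons [14, 10, 2, 8, 14] (.cons [0, 6, 12, 2, 0, 12] .nil .nil) (.cons [0, 12, 10, 0, 14] (.cons [4, 10, 2, 12] (.cons [10, 0, 2] .nil .nil) .nil) (.cons [6, 8, 4, 0, 14] .nil (.cons [0, 14, 4, 6, 14] .nil .nil))))))))))))))))))))))))))))))))))))))))))))))))))))))))))))))))))))))))))))))))))))))))))))))))))))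 (⟨cx_l0.b, cx_l0.S, [], cx_R0, 0⟩ :: cx_tl) (0 :: cx_lk) Pd.nil 0 = true := by decide +kernel
theorem cx_sound {G : Type*} [Group G] {φ : G →* Equiv.Perm ℕ} {γ : ℕ → G}
    (M : Model φ γ 12 m_ns m_ts) : ChainSound φ (gp γ [0, 2, 4, 6, 8, 10, 12, 14]) 12 [] cx_ls :=
  ⟨Level.ok_sound' M cx_l0_ok,
   Level.ok_sound' M cx_l1_ok,
   Level.ok_sound' M cx_l2_ok,
   Level.ok_sound' M cx_l3_ok,
   Level.okT_sound M cx_l4_ok,
   Level.okT_sound M cx_l5_ok, trivial⟩
theorem cx_cent {G : Type*} [Group G] {φ : G →* Equiv.Perm ℕ} {γ : ℕ → G}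
    (C : Cert φ γ 12 m_ns m_ts [0, 2, 4, 6, 8, 10, 12, 14] c_ls) : Cent γ cx_S.u cx_S.Cl 22 :=
  have X := (C.rechain (cx_sound C.M) (by decide +kernel)).exact
  have A := Srch.auxB_sound (S := cx_S) C.M (K := ⊤) le_top rfl cx_aux
  have F := fun {tr : Tr} {R : ℕ} => Srch.found_of_run (S := cx_S) C.M C.base (by decide +kernel) X A (tr := tr) (R := R)
  Cent.of_found (S := cx_S) C.M X rfl (F cx_r0) cx_cov

end Cfsg.Agent.Co2C
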